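import Groth.Agent.H70.AdicFree.FinsuppAR

/-!
# The adic completion of a free module over a Noetherian ring is flat
-/

universe u

open LinearMap Submodule AdicCompletion

namespace Groth.Agent.H70.AdicFree

variable {R : Type u} [CommRing R] (I : Ideal R) (α : Type u)
variable {M : Type u} [AddCommGroup M] [Module R M]
variable {N : Type u} [AddCommGroup N] [Module R N]
variable {P : Type u} [AddCommGroup P] [Module R P]

/-- `H g` is the completion of `α →₀ g`. -/
noncomputable abbrev H (g : M →ₗ[R] N) :
    AdicCompletion I (α →₀ M) →ₗ[AdicCompletion I R] AdicCompletion I (α →₀ N) :=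
  AdicCompletion.map I (G α g)

variable {I α}

theorem H_add (g h : M →ₗ[R] N) (X : AdicCompletion I (α →₀ M)) :
    H I α (g + h) X = H I α g X + H I α h X := by
  induction X using AdicCompletion.induction_on with
  | h a =>
    simp only [H, AdicCompletion.map_mk, ← map_add]
    congr 1
    ext n : 1
    simp only [AdicCauchySequence.map_apply_coe, AdicCauchySequence.add_apply]
    ext b
    simp [G]

theorem H_smul (r : R) (g : M →ₗ[R] N) (X : AdicCompletion I (α →₀ M)) :
    H I α (r • g) X = r • H I α g X := by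
  induction X using AdicCompletion.induction_on with
  | h a =>
    simp only [H, AdicCompletion.map_mk, ← map_smul]
    congr 1
    ext n : 1
    simp only [AdicCauchySequence.map_apply_coe, AdicCauchySequence.smul_apply]
    ext b
    simp [G]

theorem H_zero (X : AdicCompletion I (α →₀ M)) : H I α (0 : M →ₗ[R] N) X = 0 := by
  have : G α (0 : M →ₗ[R] N) = 0 := by ext; simp [G]
  simp [H, this]

theorem H_id (X : AdicCompletion I (α →₀ M)) : H I α (LinearMap.id : M →ₗ[R] M) X = X := by
  have : G α (LinearMap.id : M →ₗ[R] M) = LinearMap.id := by ext; simp [G]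
  simp [H, this]

theorem H_comp (g : N →ₗ[R] P) (h : M →ₗ[R] N) (X : AdicCompletion I (α →₀ M)) :
    H I α (g ∘ₗ h) X = H I α g (H I α h X) := by
  have : G α (g ∘ₗ h) = G α g ∘ₗ G α h := by ext; simp [G]
  rw [H, this, ← AdicCompletion.map_comp_apply]

theorem H_sum {ι : Type*} (s : Finset ι) (g : ι → (M →ₗ[R] N)) (X : AdicCompletion I (α →₀ M)) :
    H I α (∑ i ∈ s, g i) X = ∑ i ∈ s, H I α (g i) X := by
  classical
  induction s using Finset.induction_on with
  | empty => simp [H_zero]
  | insert i s hi ih => rw [Finset.sum_insert hi, Finset.sum_insert hi, H_add, ih]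

/-- The key exactness statement: if `ψ' : Q → ker φ` is surjective, then anything killed by the
completion of `α →₀ φ` comes from the completion of `α →₀ (ker φ).subtype ∘ ψ'`. -/
theorem exists_of_H_eq_zero [IsNoetherianRing R] [Module.Finite R M] [Module.Finite R N]
    (φ : M →ₗ[R] N) {Q : Type u} [AddCommGroup Q] [Module R Q]
    (ψ' : Q →ₗ[R] LinearMap.ker φ) (hψ' : Function.Surjective ψ')
    (X : AdicCompletion I (α →₀ M)) (hX : H I α φ X = 0) :
    ∃ Z : AdicCompletion I (α →₀ Q), H I α ((LinearMap.ker φ).subtype ∘ₗ ψ') Z = X := by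
  -- factor `φ` through its range
  set J := LinearMap.range φ
  have hφ : φ = J.subtype ∘ₗ φ.rangeRestrict := by ext; simp [J]
  obtain ⟨k₂, hk₂⟩ := exists_isAR I J.subtype
  have hinj : Function.Injective (H I α J.subtype) :=
    map_injective_of_isAR (G_isAR I hk₂) (G_injective J.subtype_injective)
  have h1 : H I α φ.rangeRestrict X = 0 := by
    apply hinj
    rw [← H_comp, ← hφ, hX, _root_.map_zero]
  obtain ⟨k₁, hk₁⟩ := exists_isAR I (LinearMap.ker φ).subtype
  have hex : Function.Exact (LinearMap.ker φ).subtype φ.rangeRestrict := by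
    intro m
    constructor
    · intro h
      exact ⟨⟨m, by simpa using congrArg Subtype.val h⟩, rfl⟩
    · rintro ⟨⟨m', hm'⟩, rfl⟩
      ext
      simpa using hm'
  have hexact : Function.Exact (H I α (LinearMap.ker φ).subtype) (H I α φ.rangeRestrict) :=
    map_exact_of_isAR (G_injective (LinearMap.ker φ).subtype_injective)
    (G_exact hex) (G_surjective φ.surjective_rangeRestrict) (G_isAR I hk₁)
  obtain ⟨Y, hY⟩ := (hexact X).mp h1
  obtain ⟨Z, hZ⟩ := AdicCompletion.map_surjective I (G_surjective hψ') Y
  refine ⟨Z, ?_⟩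
  rw [H_comp]
  change AdicCompletion.map I (G α (LinearMap.ker φ).subtype) (AdicCompletion.map I (G α ψ') Z) = X
  rw [hZ, hY]

/-- The adic completion of a free module over a Noetherian ring is flat. -/
theorem flat_adicCompletion_finsupp (R : Type u) [CommRing R] [IsNoetherianRing R]
    (I : Ideal R) (α : Type u) : Module.Flat R (AdicCompletion I (α →₀ R)) := by
  classical
  refine Module.Flat.of_forall_isTrivialRelation ?_
  intro l f x hx
  -- the linear form `φ = ∑ f i • proj i`
  let φ : (Fin l → R) →ₗ[R] R := ∑ i, f i • (LinearMap.proj i : (Fin l → R) →ₗ[R] R)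
  obtain ⟨k, ψ', hψ'⟩ := Module.Finite.exists_fin' R (LinearMap.ker φ)
  let ψ : (Fin k → R) →ₗ[R] (Fin l → R) := (LinearMap.ker φ).subtype ∘ₗ ψ'
  let X : AdicCompletion I (α →₀ (Fin l → R)) :=
    ∑ i, H I α (LinearMap.single R (fun _ : Fin l => R) i) (x i)
  have hproj : ∀ j, H I α (LinearMap.proj j : (Fin l → R) →ₗ[R] R) X = x j := by
    intro j
    simp only [X, map_sum, ← H_comp]
    rw [Finset.sum_eq_single j]
    · rw [LinearMap.proj_comp_single_same, H_id]
    · intro i _ hij
      rw [LinearMap.proj_comp_single_ne _ _ _ _ (Ne.symm hij), H_zero]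
    · simp
  have hφX : H I α φ X = 0 := by
    simp only [φ]
    rw [H_sum]
    simp only [H_smul, hproj]
    exact hx
  obtain ⟨Z, hZ⟩ := exists_of_H_eq_zero φ ψ' hψ' X hφX
  refine ⟨k, fun i j => ψ (Pi.single j 1) i, fun j => H I α (LinearMap.proj j) Z, ?_, ?_⟩
  · intro i
    have hcomp : (LinearMap.proj i : (Fin l → R) →ₗ[R] R) ∘ₗ ψ =
        ∑ j, (ψ (Pi.single j 1) i) • (LinearMap.proj j : (Fin k → R) →ₗ[R] R) := by
      ext c
      simp only [LinearMap.comp_apply, LinearMap.proj_apply, LinearMap.sum_apply,
        LinearMap.smul_apply, smul_eq_mul, LinearMap.coe_single, Pi.single_apply]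
      simp
    rw [← hproj i, ← hZ, ← H_comp, hcomp, H_sum]
    simp only [H_smul]
  · intro j
    have : φ (ψ (Pi.single j 1)) = 0 := by
      have := (ψ' (Pi.single j 1)).2
      simpa [ψ] using this
    simpa [φ] using this

end Groth.Agent.H70.AdicFree
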