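import Mathlib

/-!
# Exactness of adic completion under an Artin–Rees hypothesis

Mathlib proves exactness of `AdicCompletion.map` on finite modules over Noetherian rings.  The
proofs only use the Artin–Rees inclusion `I ^ (k + n) • ⊤ ⊓ range f ≤ I ^ n • range f`; we restate
them with that inclusion as a hypothesis, so that they apply to non-finite modules such as
`α →₀ M`.
-/

universe u

open LinearMap Submodule AdicCompletion

namespace Groth.Agent.H70.AdicFree

variable {R : Type u} [CommRing R] (I : Ideal R)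
variable {M : Type u} [AddCommGroup M] [Module R M]
variable {N : Type u} [AddCommGroup N] [Module R N]
variable {P : Type u} [AddCommGroup P] [Module R P]

/-- The Artin–Rees inclusion for (the range of) a linear map, with constant `k`. -/
def IsAR (f : M →ₗ[R] N) (k : ℕ) : Prop :=
  ∀ n : ℕ, (I ^ (k + n) • ⊤ : Submodule R N) ⊓ LinearMap.range f ≤ I ^ n • LinearMap.range f

variable {I}

theorem IsAR.mem_of_injective {f : M →ₗ[R] N} {k : ℕ} (h : IsAR I f k)
    (hf : Function.Injective f) {n : ℕ} {y : M}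
    (hy : f y ∈ (I ^ (k + n) • ⊤ : Submodule R N)) : y ∈ (I ^ n • ⊤ : Submodule R M) := by
  rw [← Submodule.comap_map_eq_of_injective hf (I ^ n • ⊤ : Submodule R M),
    Submodule.map_smul'', Submodule.map_top]
  exact h n ⟨hy, ⟨y, rfl⟩⟩

/-- Adic completion preserves injectivity under an Artin–Rees hypothesis. -/
theorem map_injective_of_isAR {f : M →ₗ[R] N} {k : ℕ} (h : IsAR I f k)
    (hf : Function.Injective f) : Function.Injective (AdicCompletion.map I f) := by
  rw [← LinearMap.ker_eq_bot, LinearMap.ker_eq_bot']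
  intro x
  apply AdicCompletion.induction_on I M x (fun a ↦ ?_)
  intro hx
  refine AdicCompletion.mk_zero_of _ _ _ ⟨42, fun n _ ↦ ⟨k + n, by lia, n, by lia, ?_⟩⟩
  apply h.mem_of_injective hf
  simpa using congrArg (fun x ↦ x.val (k + n)) hx

section

variable {f : M →ₗ[R] N} {g : N →ₗ[R] P} (hf : Function.Injective f)
  (hfg : Function.Exact f g) (hg : Function.Surjective g)
variable {k : ℕ} (hAR : IsAR I f k)
  (x : AdicCauchySequence I N) (hker : ∀ (n : ℕ), g (x n) ∈ (I ^ n • ⊤ : Submodule R P))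

include hf hAR in
private theorem mapExactAuxDelta {n : ℕ} {d : N}
    (hdmem : d ∈ (I ^ (k + n + 1) • ⊤ : Submodule R N)) {y yₙ : M}
    (hd : f y = x (k + n + 1) - d) (hyₙ : f yₙ - x (k + n) ∈ (I ^ (k + n) • ⊤ : Submodule R N)) :
    ∃ d : M, d ∈ (I ^ n • ⊤ : Submodule R M) ∧
      f (yₙ + d) - x (k + n + 1) ∈ (I ^ (k + n + 1) • ⊤ : Submodule R N) := by
  have h : f (y - yₙ) ∈ (I ^ (k + n) • ⊤ : Submodule R N) := by
    simp only [map_sub, hd]
    convert_to x (k + n + 1) - x (k + n) - d - (f yₙ - x (k + n)) ∈ I ^ (k + n) • ⊤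
    · abel
    · refine Submodule.sub_mem _ (Submodule.sub_mem _ ?_ ?_) hyₙ
      · rw [← Submodule.Quotient.eq]
        exact AdicCauchySequence.mk_eq_mk (by lia) _
      · exact (Submodule.smul_mono_left (Ideal.pow_le_pow_right (by lia))) hdmem
  refine ⟨y - yₙ, hAR.mem_of_injective hf h, ?_⟩
  simpa [hd] using hdmem

include hg hfg hker in
private theorem h2 (n : ℕ) : ∃ (d : N) (y : M),
    d ∈ (I ^ (k + n) • ⊤ : Submodule R N) ∧ f y = x (k + n) - d := by
  have h1 : g (x (k + n)) ∈ Submodule.map g (I ^ (k + n) • ⊤ : Submodule R N) := by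
    rw [map_smul'', Submodule.map_top, range_eq_top.mpr hg]
    exact hker (k + n)
  obtain ⟨d, hdmem, hd⟩ := h1
  obtain ⟨y, hdy⟩ := (hfg (x (k + n) - d)).mp (by simp [hd])
  exact ⟨d, y, hdmem, hdy⟩

include hf hfg hg hAR hker in
private theorem exists_seq :
    ∃ a : ℕ → M, (∀ n, f (a n) - x (k + n) ∈ (I ^ (k + n) • ⊤ : Submodule R N)) ∧
      ∀ n, a (n + 1) - a n ∈ (I ^ n • ⊤ : Submodule R M) := by
  have step : ∀ n (yₙ : M), f yₙ - x (k + n) ∈ (I ^ (k + n) • ⊤ : Submodule R N) →
      ∃ y' : M, f y' - x (k + (n + 1)) ∈ (I ^ (k + (n + 1)) • ⊤ : Submodule R N) ∧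
        y' - yₙ ∈ (I ^ n • ⊤ : Submodule R M) := by
    intro n yₙ hyₙ
    obtain ⟨d, y, hdmem, hdy⟩ := h2 hfg hg x hker (k := k) (n + 1)
    obtain ⟨d', hd'mem, hd'⟩ := mapExactAuxDelta hf hAR x (n := n) (by simpa [add_assoc] using hdmem)
      (by simpa [add_assoc] using hdy) hyₙ
    exact ⟨yₙ + d', by simpa [add_assoc] using hd', by simpa using hd'mem⟩
  have base : ∃ y₀ : M, f y₀ - x (k + 0) ∈ (I ^ (k + 0) • ⊤ : Submodule R N) := by
    obtain ⟨d, y, hdmem, hdy⟩ := h2 hfg hg x hker (k := k) 0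
    exact ⟨y, by simpa [hdy] using hdmem⟩
  obtain ⟨y₀, hy₀⟩ := base
  choose! nxt hnxt using step
  let a : ℕ → M := fun n => Nat.rec y₀ (fun n y => nxt n y) n
  have ha : ∀ n, f (a n) - x (k + n) ∈ (I ^ (k + n) • ⊤ : Submodule R N) := by
    intro n
    induction n with
    | zero => exact hy₀
    | succ n ih => exact (hnxt n (a n) ih).1
  exact ⟨a, ha, fun n => (hnxt n (a n) (ha n)).2⟩

include hf hfg hg hAR in
/-- Adic completion is exact on a short exact sequence whose first map satisfies an Artin–Rees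
inclusion. -/
theorem map_exact_of_isAR :
    Function.Exact (AdicCompletion.map I f) (AdicCompletion.map I g) := by
  refine LinearMap.exact_of_comp_eq_zero_of_ker_le_range ?_ (fun y ↦ ?_)
  · rw [AdicCompletion.map_comp, hfg.linearMap_comp_eq_zero, AdicCompletion.map_zero]
  · apply AdicCompletion.induction_on I N y (fun b ↦ ?_)
    intro hz
    have hb (n : ℕ) : g (b n) ∈ (I ^ n • ⊤ : Submodule R P) := by
      simpa using congrArg (fun x ↦ x.val n) hz
    obtain ⟨a, ha, hstep⟩ := exists_seq hf hfg hg hAR b hb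
    refine ⟨AdicCompletion.mk I M (AdicCauchySequence.mk I M a ?_), ?_⟩
    · intro n
      rw [SModEq.comm, SModEq.sub_mem]
      exact hstep n
    · ext n
      suffices h : Submodule.Quotient.mk (p := (I ^ n • ⊤ : Submodule R N)) (f (a n)) =
            Submodule.Quotient.mk (p := (I ^ n • ⊤ : Submodule R N)) (b (k + n)) by
        simp [h, AdicCauchySequence.mk_eq_mk (show n ≤ k + n by lia)]
      rw [Submodule.Quotient.eq]
      have hle : (I ^ (k + n) • ⊤ : Submodule R N) ≤ (I ^ n • ⊤ : Submodule R N) :=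
        Submodule.smul_mono_left (Ideal.pow_le_pow_right (by lia))
      exact hle (ha n)

end

end Groth.Agent.H70.AdicFree
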