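import Groth.Agent.H70.AdicFree.ARExact

/-!
# `α →₀ ·` preserves exactness and Artin–Rees inclusions
-/

universe u

open LinearMap Submodule

namespace Groth.Agent.H70.AdicFree

variable {R : Type u} [CommRing R] (I : Ideal R) (α : Type u)
variable {M : Type u} [AddCommGroup M] [Module R M]
variable {N : Type u} [AddCommGroup N] [Module R N]
variable {P : Type u} [AddCommGroup P] [Module R P]

/-- The functor `α →₀ ·` on linear maps. -/
noncomputable abbrev G (f : M →ₗ[R] N) : (α →₀ M) →ₗ[R] (α →₀ N) := Finsupp.mapRange.linearMap f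

variable {α}

theorem G_single (f : M →ₗ[R] N) (a : α) (m : M) :
    G α f (Finsupp.single a m) = Finsupp.single a (f m) := by
  simp [G]

theorem mem_range_G {f : M →ₗ[R] N} {z : α →₀ N} (hz : ∀ a, z a ∈ LinearMap.range f) :
    z ∈ LinearMap.range (G α f) := by
  classical
  rw [← Finsupp.sum_single z]
  refine Submodule.sum_mem _ fun a _ => ?_
  obtain ⟨m, hm⟩ := hz a
  exact ⟨Finsupp.single a m, by rw [G_single, hm]⟩

theorem G_injective {f : M →ₗ[R] N} (hf : Function.Injective f) : Function.Injective (G α f) :=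
  Finsupp.mapRange_injective f (map_zero f) hf

theorem G_surjective {f : M →ₗ[R] N} (hf : Function.Surjective f) : Function.Surjective (G α f) := by
  intro z
  have : z ∈ LinearMap.range (G α f) := mem_range_G fun a => by
    obtain ⟨m, hm⟩ := hf (z a); exact ⟨m, hm⟩
  exact this

theorem G_exact {f : M →ₗ[R] N} {g : N →ₗ[R] P} (h : Function.Exact f g) :
    Function.Exact (G α f) (G α g) := by
  intro z
  constructor
  · intro hz
    refine mem_range_G fun a => ?_
    have : g (z a) = 0 := by
      have := DFunLike.congr_fun hz a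
      simpa [G] using this
    exact (h (z a)).mp this
  · rintro ⟨w, rfl⟩
    ext a
    simp [G, h.apply_apply_eq_zero]

theorem G_isAR {f : M →ₗ[R] N} {k : ℕ} (h : IsAR I f k) : IsAR I (G α f) k := by
  classical
  intro n z hz
  obtain ⟨hz1, w, rfl⟩ := hz
  have hval : ∀ a, (G α f w) a ∈ I ^ n • LinearMap.range f := by
    intro a
    refine h n ⟨?_, ⟨w a, by simp [G]⟩⟩
    have : (Finsupp.lapply a : (α →₀ N) →ₗ[R] N) (G α f w) ∈
        Submodule.map (Finsupp.lapply a : (α →₀ N) →ₗ[R] N) (I ^ (k + n) • ⊤) :=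
      Submodule.mem_map_of_mem hz1
    rw [Submodule.map_smul''] at this
    exact (smul_mono_right _ le_top : _ ≤ (I ^ (k + n) • ⊤ : Submodule R N)) this
  rw [← Finsupp.sum_single (G α f w)]
  refine Submodule.sum_mem _ fun a _ => ?_
  have hle : Submodule.map (Finsupp.lsingle a : N →ₗ[R] (α →₀ N)) (I ^ n • LinearMap.range f) ≤
      I ^ n • LinearMap.range (G α f) := by
    rw [Submodule.map_smul'']
    refine smul_mono_right _ ?_
    rintro _ ⟨_, ⟨m, rfl⟩, rfl⟩
    exact ⟨Finsupp.single a m, by simp [G]⟩
  exact hle (Submodule.mem_map_of_mem (hval a))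

/-- Artin–Rees for a submodule of a finite module over a Noetherian ring, in the `IsAR` form. -/
theorem exists_isAR [IsNoetherianRing R] [Module.Finite R N] (f : M →ₗ[R] N) :
    ∃ k, IsAR I f k := by
  obtain ⟨k, hk⟩ := Ideal.exists_pow_inf_eq_pow_smul I (LinearMap.range f)
  refine ⟨k, fun n => ?_⟩
  rw [hk (k + n) (by lia)]
  have : k + n - k = n := by lia
  rw [this]
  exact smul_mono_right _ inf_le_right

end Groth.Agent.H70.AdicFree
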